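import Groth.Agent.Lib.QcohEt15.Push
import Groth.Agent.Lib.AlgSpEt14.Basic

/-!
# Flat base change of sections: the affine pieces
-/

universe u v

set_option linter.style.haveILetI false
set_option backward.isDefEq.respectTransparency false
set_option backward.isDefEq.respectTransparency.types false

open CategoryTheory CategoryTheory.Limits AlgebraicGeometry Opposite TensorProduct

namespace Groth.Agent.QcohPush14

open AlgSp Groth.Agent.QcohEt15 Groth.Agent.AlgSpEt14

variable {S : Scheme.{u}} {X Y : Sp S}

section Opens

variable {Z B : EtOver X} (h : Z ⟶ B) (V : Z.obj.left.left.Opens) (O : B.obj.left.left.Opens)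
  (e : V ≤ h.hom.left.left ⁻¹ᵁ O)

/-- The restriction of a morphism to opens. -/
noncomputable def openLift : openSub Z V ⟶ openSub B O :=
  EtOver.homMk (Over.homMk (h.hom.left.left.resLE O V e) (by
    change h.hom.left.left.resLE O V e ≫ O.ι ≫ B.obj.left.hom = V.ι ≫ Z.obj.left.hom
    rw [← Category.assoc, Scheme.Hom.resLE_comp_ι, Category.assoc]
    exact congrArg (V.ι ≫ ·) (Over.w h.hom.left))) (by
    change (yon S).map _ ≫ ((yon S).map _ ≫ B.obj.hom) = (yon S).map _ ≫ Z.obj.hom
    refine Eq.trans ?_ (congrArg (_ ≫ ·) (EtOver.w h))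
    refine ((Category.assoc _ _ _).symm.trans (congrArg (· ≫ B.obj.hom) (Eq.trans ?_
      (((yon S).map_comp _ _))))).trans (Category.assoc _ _ _)
    refine ((yon S).map_comp _ _).symm.trans (congrArg (yon S).map ?_)
    ext1
    exact Scheme.Hom.resLE_comp_ι _ _)

theorem openLift_ι : openLift h V O e ≫ openSubι B O = openSubι Z V ≫ h :=
  EtOver.hom_ext _ _ (Over.OverMorphism.ext (Scheme.Hom.resLE_comp_ι _ _))

end Opens

variable {E E' : EtOver Y} (g : E' ⟶ E) (M : ModEt X)

/-- Sections over an object, with functions of another object acting through a map. -/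
def SecVia (W : EtOver X) (_b : W.obj.left.left ⟶ E.obj.left.left) : Type (u + 1) := sectModEt M W

variable {W W' : EtOver X} (b : W.obj.left.left ⟶ E.obj.left.left)

noncomputable instance : AddCommGroup (SecVia M W b) := inferInstanceAs (AddCommGroup (sectModEt M W))

/-- Functions on the object act. -/
noncomputable instance secViaModule : Module (Γo W) (SecVia M W b) :=
  inferInstanceAs (Module (Γo W) (sectModEt M W))

noncomputable instance : Module (Γo E) (SecVia M W b) :=
  Module.compHom _ b.appTop.hom

variable {M b}

/-- Forget the action. -/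
noncomputable def SecVia.out (m : SecVia M W b) : sectModEt M W := m

/-- Remember the action. -/
noncomputable def SecVia.mk (b : W.obj.left.left ⟶ E.obj.left.left) (m : sectModEt M W) :
    SecVia M W b := m

theorem SecVia.out_smul (r : Γo E) (m : SecVia M W b) :
    (r • m).out = (b.appTop r : Γo W) • m.out := rfl

variable (M b) (G : W' ⟶ W) (b' : W'.obj.left.left ⟶ E'.obj.left.left)
  (w : G.hom.left.left ≫ b = b' ≫ g.hom.left.left)

include w in
theorem appTop_w (r : Γo E) : γ G (b.appTop r) = (b'.appTop (γ g r) : Γo W') := by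
  have h' := congrArg (fun q => q.appTop.hom r) w
  simp only [Scheme.Hom.comp_appTop, CommRingCat.hom_comp, RingHom.comp_apply] at h'
  exact h'

/-- The comparison map. -/
noncomputable def μ : Tw g ⊗[Γo E] SecVia M W b →+ sectModEt M W' :=
  TensorProduct.liftAddHom
    { toFun := fun a =>
        { toFun := fun m => (b'.appTop (Tw.out a) : Γo W') • res M G m.out
          map_zero' := by
            change (_ : Γo W') • res M G (0 : sectModEt M W) = 0
            rw [map_zero, smul_zero]
          map_add' := fun m n => (congrArg _ (map_add _ _ _)).trans (smul_add _ _ _) }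
      map_zero' := AddMonoidHom.ext fun m => by
        change (b'.appTop (0 : Γo E') : Γo W') • res M G m.out = 0
        rw [map_zero, zero_smul]
      map_add' := fun a c => AddMonoidHom.ext fun m => by
        change (b'.appTop (Tw.out a + Tw.out c) : Γo W') • res M G m.out =
          (b'.appTop (Tw.out a) : Γo W') • res M G m.out + (b'.appTop (Tw.out c) : Γo W') • res M G m.out
        rw [map_add, add_smul] }
    fun r a m => by
      change (b'.appTop (γ g r * Tw.out a) : Γo W') • res M G m.out =
        (b'.appTop (Tw.out a) : Γo W') • res M G (r • m).out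
      rw [SecVia.out_smul, res_smul, appTop_w g b G b' w, map_mul, mul_comm]
      exact mul_smul _ _ _

theorem μ_tmul (a : Tw g) (m : SecVia M W b) :
    μ g M b G b' w (a ⊗ₜ m) = (b'.appTop (Tw.out a) : Γo W') • res M G m.out := rfl

/-- Base change of sections over affine objects along a pullback square. -/
theorem bijective_μ [M.IsQuasicoherent] [IsAffine E.obj.left.left] [IsAffine E'.obj.left.left]
    [IsAffine W.obj.left.left] [IsAffine W'.obj.left.left]
    (sq : IsPullback G.hom.left.left b' b g.hom.left.left) :
    Function.Bijective (μ g M b G b' w) := by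
  letI : Algebra (Γo E) (Γo W) := b.appTop.hom.toAlgebra
  letI : Algebra (Γo E) (Tw G) := ((γ G).comp b.appTop.hom).toAlgebra
  letI : Algebra (Tw g) (Tw G) := RingHom.toAlgebra (R := Tw g) (S := Tw G) b'.appTop.hom
  have : IsScalarTower (Γo E) (Γo W) (Tw G) := IsScalarTower.of_algebraMap_eq' rfl
  have : IsScalarTower (Γo E) (Tw g) (Tw G) :=
    IsScalarTower.of_algebraMap_eq fun r => appTop_w g b G b' w r
  have hP : Algebra.IsPushout (Γo E) (Tw g) (Γo W) (Tw G) := by
    refine CommRingCat.isPushout_iff_isPushout.1 ?_
    exact (isPushout_appTop_of_isPullback sq).flip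
  have : IsScalarTower (Γo E) (Γo W) (SecVia M W b) :=
    ⟨fun r c m => mul_smul (α := Γo W) (b.appTop r) c m⟩
  let e := Algebra.IsPushout.cancelBaseChange (Γo E) (Tw g) (Γo W) (Tw G) (SecVia M W b)
  have key : ⇑(μ g M b G b' w) =
      lift G (LinearMap.id : sectModEt M W →ₗ[Γo W] _) ∘ e.symm := funext fun z => by
    induction z using TensorProduct.induction_on with
    | zero => exact (map_zero _).trans ((congrArg _ (map_zero e.symm)).trans (map_zero _)).symm
    | tmul a n =>
      rw [Function.comp_apply, μ_tmul]
      simp only [e, Algebra.IsPushout.cancelBaseChange_symm_tmul]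
      rfl
    | add x y hx hy =>
      rw [map_add, hx, hy]
      simp only [Function.comp_apply, map_add]
  rw [key]
  exact Function.Bijective.comp (good_of_isQuasicoherent W G) e.symm.bijective

/-- Equalizer presentations reduce base change of sections to that of the pieces. -/
theorem bijective_of_equalizer {A : Type u} [CommRing A] (T : Type u) [AddCommGroup T] [Module A T]
    [Module.Flat A T] {N P Q : Type v} [AddCommGroup N] [AddCommGroup P] [AddCommGroup Q]
    [Module A N] [Module A P] [Module A Q] {N' P' Q' : Type v} [AddCommGroup N'] [AddCommGroup P']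
    [AddCommGroup Q'] (r : N →ₗ[A] P) (d : P →ₗ[A] Q) (r' : N' →+ P') (d' : P' →+ Q')
    (μN : T ⊗[A] N →+ N') (μP : T ⊗[A] P →+ P') (μQ : T ⊗[A] Q →+ Q')
    (hr : Function.Injective r) (hex : Function.Exact r d) (hr' : Function.Injective r')
    (hex' : Function.Exact r' d') (hP : Function.Bijective μP) (hQ : Function.Injective μQ)
    (cr : ∀ z, r' (μN z) = μP (r.lTensor T z)) (cd : ∀ z, d' (μP z) = μQ (d.lTensor T z)) :
    Function.Bijective μN := by
  have hrT : Function.Injective (r.lTensor T) := Module.Flat.lTensor_preserves_injective_linearMap r hr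
  have hexT : Function.Exact (r.lTensor T) (d.lTensor T) := Module.Flat.lTensor_exact T hex
  refine ⟨fun x y e => hrT (hP.1 ?_), fun y => ?_⟩
  · rw [← cr, ← cr, e]
  · obtain ⟨z, hz⟩ := hP.2 (r' y)
    have : d.lTensor T z = 0 := hQ (by rw [← cd, hz, hex'.apply_apply_eq_zero, map_zero])
    obtain ⟨x, rfl⟩ := (hexT z).1 this
    exact ⟨x, hr' (by rw [cr, hz])⟩

end Groth.Agent.QcohPush14
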