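import Groth.Agent.Lib.QcohPush14.Qcqs
import Groth.Agent.Lib.AlgSpace.QCQS
import Groth.Agent.Lib.AlgSpace.MorDiag
import Groth.Prelude.Def_AlgSp4

/-!
# Quasi-coherence of qcqs direct images
-/

universe u

set_option linter.style.haveILetI false
set_option backward.isDefEq.respectTransparency false
set_option backward.isDefEq.respectTransparency.types false

open CategoryTheory CategoryTheory.Limits AlgebraicGeometry Opposite TensorProduct

namespace Groth.Agent.QcohPush14

open AlgSp Groth.Agent.QcohEt15 Groth.Agent.AlgSpace

variable {S : Scheme.{u}} {X Y : Sp S} {f : X ⟶ Y} (hf : Representable f) (M : ModEt X)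

/-- Base change of the sections of a direct image over an object with qcqs preimage. -/
theorem good_push_qcqs [M.IsQuasicoherent] (E : EtOver Y) [IsAffine E.obj.left.left]
    [CompactSpace (EtOver.bcObj hf E).obj.left.left] [QuasiSeparatedSpace (EtOver.bcObj hf E).obj.left.left] :
    Good ((pushModEt hf).obj M) E := by
  intro E' _ g
  let π := (EtOver.bcπ hf E).left
  let t : Tw g ⊗[Γo E] sectModEt ((pushModEt hf).obj M) E ≃ₗ[Γo E] Tw g ⊗[Γo E] SecVia M (EtOver.bcObj hf E) π :=
    LinearEquiv.lTensor (Tw g)
      { toFun := fun m => SecVia.mk π (pushOut hf m)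
        invFun := fun m => pushIn hf m.out
        left_inv := fun _ => rfl
        right_inv := fun _ => rfl
        map_add' := fun _ _ => rfl
        map_smul' := fun r m => pushOut_smul hf r m }
  have sq := EtOver.isPullback_bcMap_left hf g
  have key : ∀ z, pushOut hf (lift g (LinearMap.id : sectModEt ((pushModEt hf).obj M) E →ₗ[Γo E] _) z) =
      μ g M π (EtOver.bcMap hf g) (EtOver.bcπ hf E').left sq.w (t z) := by
    intro z
    induction z using TensorProduct.induction_on with
    | zero => simp only [map_zero]; rfl
    | tmul a n =>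
      rw [lift_tmul, pushOut_smul, LinearMap.id_apply, pushOut_res]
      rfl
    | add x y hx hy => rw [map_add, map_add, map_add, ← hx, ← hy]; rfl
  have hb : Function.Bijective fun z => pushOut hf
      (lift g (LinearMap.id : sectModEt ((pushModEt hf).obj M) E →ₗ[Γo E] _) z) := by
    rw [show (fun z => pushOut hf (lift g (LinearMap.id : sectModEt ((pushModEt hf).obj M) E →ₗ[Γo E] _) z)) =
      μ g M π (EtOver.bcMap hf g) (EtOver.bcπ hf E').left sq.w ∘ t from funext key]
    exact (bijective_μ_qcqs M g π _ _ sq).comp t.bijective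
  exact hb

/-- Direct images along representable qcqs morphisms of algebraic spaces preserve quasi-coherence. -/
theorem isQuasicoherent_push_qcqs (hX : IsAlgSpace X) (hY : IsAlgSpace Y) (hqc : IsQuasiCompactMor f)
    (hqs : IsQuasiSeparatedMor f) [M.IsQuasicoherent] : ((pushModEt hf).obj M).IsQuasicoherent := by
  refine isQuasicoherent_of_good fun E hE => ?_
  have sq := EtOver.isPullback_bcObj hf E
  haveI := compactSpace_yon_of_affine E.obj.left
  haveI : CompactSpace (EtOver.bcObj hf E).obj.left.left :=
    (compactSpace_yon_iff _).1 ((isQuasiCompactSp_iff (IsAlgSpace.yon_obj _)).1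
      (hqc (IsAlgSpace.yon_obj _) ((isQuasiCompactSp_iff (IsAlgSpace.yon_obj E.obj.left)).2 inferInstance) _ _ _ sq))
  haveI : QuasiSeparatedSpace (EtOver.bcObj hf E).obj.left.left := by
    have : QuasiSeparated (EtOver.bcπ hf E).left :=
      ((isQuasiSeparatedMor_iff_of_representable hX hY hf).1 hqs).2 E.obj.hom _ _ sq
    exact quasiSeparatedSpace_of_quasiSeparated (EtOver.bcπ hf E).left
  exact good_push_qcqs hf M E

end Groth.Agent.QcohPush14
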