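import Groth.Agent.Lib.QcohPush14.Local
import Groth.Agent.Lib.AlgSpace.QCQS
import Mathlib.LinearAlgebra.TensorProduct.Pi
import Mathlib.Topology.Category.TopCat.Opens

/-!
# Direct images along quasi-compact quasi-separated representable morphisms
-/

universe u v

set_option linter.style.haveILetI false
set_option maxHeartbeats 1000000
set_option backward.isDefEq.respectTransparency false
set_option backward.isDefEq.respectTransparency.types false

open CategoryTheory CategoryTheory.Limits AlgebraicGeometry Opposite TensorProduct TopologicalSpace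

namespace Groth.Agent.QcohPush14

open AlgSp Groth.Agent.QcohEt15 Groth.Agent.AlgSpEt14

variable {S : Scheme.{u}}

/-- A quasi-compact open is covered by finitely many affine opens. -/
theorem exists_affines {Z : Scheme.{u}} (U : Z.Opens) (hU : IsCompact (U : Set Z)) :
    ∃ (κ : Type u) (_ : Finite κ) (O : κ → Z.Opens), (∀ k, IsAffineOpen (O k)) ∧ (∀ k, O k ≤ U) ∧
      ∀ x ∈ U, ∃ k, x ∈ O k := by
  obtain ⟨t, ht⟩ := hU.elim_finite_subcover
    (fun O : {O : Z.Opens // IsAffineOpen O ∧ O ≤ U} => (O.1 : Set Z)) (fun O => O.1.isOpen) fun x hx => by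
      obtain ⟨_, ⟨(O : Z.Opens), hO, rfl⟩, hxO, hle⟩ :=
        Z.isBasis_affineOpens.exists_subset_of_mem_open hx U.isOpen
      exact Set.mem_iUnion.2 ⟨⟨O, hO, hle⟩, hxO⟩
  refine ⟨↥t, inferInstance, fun O => O.1.1, fun O => O.1.2.1, fun O => O.1.2.2, fun x hx => ?_⟩
  obtain ⟨O, hO, hxO⟩ := Set.mem_iUnion₂.1 (ht hx)
  exact ⟨⟨O, hO⟩, hxO⟩

section Cover

variable {X Y : Sp S} (M : ModEt X) {E : EtOver Y} {B : EtOver X}
  (π : B.obj.left.left ⟶ E.obj.left.left) {ι : Type u} (O : ι → B.obj.left.left.Opens)
  {κ : ι × ι → Type u} (O' : ∀ p, κ p → B.obj.left.left.Opens)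
  (hle₁ : ∀ p k, O' p k ≤ O p.1) (hle₂ : ∀ p k, O' p k ≤ O p.2)

/-- An open piece with its map to the base. -/
noncomputable abbrev pieceMap (U : B.obj.left.left.Opens) :
    (openSub B U).obj.left.left ⟶ E.obj.left.left :=
  (openSubι B U).hom.left.left ≫ π

/-- The inclusion of a piece into a larger one. -/
noncomputable abbrev incl {U V : B.obj.left.left.Opens} (h : V ≤ U) : openSub B V ⟶ openSub B U :=
  openLift (𝟙 B) V U h

omit M in
theorem incl_ι {U V : B.obj.left.left.Opens} (h : V ≤ U) : incl h ≫ openSubι B U = openSubι B V :=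
  (openLift_ι (𝟙 B) V U h).trans (Category.comp_id _)

/-- Restriction of sections along a map of pieces, linear over the base. -/
noncomputable def resVia {W W' : EtOver X} (k : W' ⟶ W) (b : W.obj.left.left ⟶ E.obj.left.left)
    (b' : W'.obj.left.left ⟶ E.obj.left.left) (h : k.hom.left.left ≫ b = b') :
    SecVia M W b →ₗ[Γo E] SecVia M W' b' where
  toFun m := SecVia.mk b' (res M k m.out)
  map_add' m n := map_add (res M k) m.out n.out
  map_smul' r m := by
    subst h
    change res M k ((b.appTop r : Γo W) • m.out) = ((k.hom.left.left ≫ b).appTop r : Γo W') • res M k m.out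
    rw [res_smul, Scheme.Hom.comp_appTop]
    rfl

theorem resVia_out {W W' : EtOver X} (k : W' ⟶ W) (b : W.obj.left.left ⟶ E.obj.left.left)
    (b' : W'.obj.left.left ⟶ E.obj.left.left) (h : k.hom.left.left ≫ b = b') (m : SecVia M W b) :
    (resVia M k b b' h m).out = res M k m.out := rfl

omit M in
theorem incl_pieceMap {U V : B.obj.left.left.Opens} (h : V ≤ U) :
    (incl h).hom.left.left ≫ pieceMap π U = pieceMap π V :=
  (Category.assoc _ _ _).symm.trans (congrArg (fun a => a.hom.left.left ≫ π) (incl_ι h))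

/-- Restriction to the pieces. -/
noncomputable def rMap : SecVia M B π →ₗ[Γo E] ∀ i, SecVia M (openSub B (O i)) (pieceMap π (O i)) :=
  LinearMap.pi fun i => resVia M (openSubι B (O i)) π _ rfl

/-- The difference of the two restrictions. -/
noncomputable def dMap : (∀ i, SecVia M (openSub B (O i)) (pieceMap π (O i))) →ₗ[Γo E]
    ∀ q : (Σ p, κ p), SecVia M (openSub B (O' q.1 q.2)) (pieceMap π (O' q.1 q.2)) :=
  LinearMap.pi fun q =>
    (resVia M (incl (hle₁ q.1 q.2)) _ _ (incl_pieceMap π (hle₁ q.1 q.2))).comp (LinearMap.proj q.1.1) -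
      (resVia M (incl (hle₂ q.1 q.2)) _ _ (incl_pieceMap π (hle₂ q.1 q.2))).comp (LinearMap.proj q.1.2)

variable (hO : ∀ x, ∃ i, x ∈ O i)

include hO in
theorem rMap_injective : Function.Injective (rMap M π O) := fun m n e =>
  sections_ext_family M (fun i => openSub B (O i)) (fun i => openSubι B (O i))
    (fun x => (hO x).imp fun i hi => (range_openSubι B (O i)).symm ▸ hi) fun i => congrFun e i

variable (hO' : ∀ p x, x ∈ O p.1 → x ∈ O p.2 → ∃ k, x ∈ O' p k)

include hO hO' in
theorem exact_rMap : Function.Exact (rMap M π O) (dMap M π O O' hle₁ hle₂) := by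
  intro w
  refine ⟨fun hw => ?_, ?_⟩
  · obtain ⟨m, hm⟩ := exists_glue_family M (ι := ULift.{u + 1} ι) (fun i => openSub B (O i.down))
      (fun i => openSubι B (O i.down))
      (fun x => (hO x).elim fun i hi => ⟨⟨i⟩, (range_openSubι B (O i)).symm ▸ hi⟩)
      (fun i => (w i.down).out) fun i j Z a b e => by
        let h := a ≫ openSubι B (O i.down)
        refine sections_ext_family M (fun k => openSub Z (h.hom.left.left ⁻¹ᵁ O' (i.down, j.down) k))
          (fun k => openSubι Z _) (fun x => ?_) fun k => ?_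
        · have h₁ : h.hom.left.left x ∈ O i.down := (a.hom.left.left x).2
          have h₂ : h.hom.left.left x ∈ O j.down := by
            rw [show h = b ≫ openSubι B (O j.down) from e]
            exact (b.hom.left.left x).2
          exact (hO' (i.down, j.down) _ h₁ h₂).imp fun k hk => (range_openSubι Z _).symm ▸ hk
        · let c := openLift h (h.hom.left.left ⁻¹ᵁ O' (i.down, j.down) k) (O' (i.down, j.down) k) le_rfl
          have ha : openSubι Z _ ≫ a = c ≫ incl (hle₁ (i.down, j.down) k) := by
            refine EtOver.hom_ext _ _ (Over.OverMorphism.ext ((cancel_mono (O i.down).ι).1 ?_))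
            have := congrArg (fun z => z.hom.left.left)
              (show (openSubι Z _ ≫ a) ≫ openSubι B (O i.down) =
                (c ≫ incl (hle₁ (i.down, j.down) k)) ≫ openSubι B (O i.down) by
                rw [Category.assoc, Category.assoc, incl_ι, openLift_ι])
            exact this
          have hb : openSubι Z _ ≫ b = c ≫ incl (hle₂ (i.down, j.down) k) := by
            refine EtOver.hom_ext _ _ (Over.OverMorphism.ext ((cancel_mono (O j.down).ι).1 ?_))
            have := congrArg (fun z => z.hom.left.left)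
              (show (openSubι Z _ ≫ b) ≫ openSubι B (O j.down) =
                (c ≫ incl (hle₂ (i.down, j.down) k)) ≫ openSubι B (O j.down) by
                rw [Category.assoc, Category.assoc, incl_ι, openLift_ι, ← e])
            exact this
          rw [← res_comp, ← res_comp, ha, hb, res_comp, res_comp]
          exact congrArg _ (sub_eq_zero.1 (congrFun hw ⟨(i.down, j.down), k⟩))
    exact ⟨SecVia.mk π m, funext fun i => hm ⟨i⟩⟩
  · rintro ⟨m, rfl⟩
    refine funext fun q => ?_
    change res M _ (res M _ m.out) - res M _ (res M _ m.out) = (0 : sectModEt M _)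
    rw [← res_comp, ← res_comp, incl_ι, incl_ι, sub_self]

end Cover

section Compare

variable {X Y : Sp S} (M : ModEt X) {E E' : EtOver Y} (g : E' ⟶ E) {B B' : EtOver X}
  (π : B.obj.left.left ⟶ E.obj.left.left) (π' : B'.obj.left.left ⟶ E'.obj.left.left)
  (G : B' ⟶ B) (sq : IsPullback G.hom.left.left π' π g.hom.left.left)

omit M in
include sq in
theorem isPullback_piece (U : B.obj.left.left.Opens) :
    IsPullback (openLift G (G.hom.left.left ⁻¹ᵁ U) U le_rfl).hom.left.left
      (pieceMap π' (G.hom.left.left ⁻¹ᵁ U)) (pieceMap π U) g.hom.left.left := by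
  have e : (openLift G (G.hom.left.left ⁻¹ᵁ U) U le_rfl).hom.left.left = G.hom.left.left ∣_ U :=
    (cancel_mono U.ι).1 ((Scheme.Hom.resLE_comp_ι _ _).trans (morphismRestrict_ι _ _).symm)
  rw [e]
  exact (isPullback_morphismRestrict G.hom.left.left U).paste_vert sq

omit M in
include sq in
theorem isAffine_piece [IsAffine E.obj.left.left] [IsAffine E'.obj.left.left] (U : B.obj.left.left.Opens)
    (hU : IsAffineOpen U) : IsAffine (openSub B' (G.hom.left.left ⁻¹ᵁ U)).obj.left.left := by
  haveI : IsAffine (openSub B U).obj.left.left := hU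
  exact IsAffine.of_isIso (isPullback_piece g π π' G sq U).isoPullback.hom

/-- The comparison map on a piece. -/
noncomputable def μPiece (U : B.obj.left.left.Opens) :
    Tw g ⊗[Γo E] SecVia M (openSub B U) (pieceMap π U) →+
      sectModEt M (openSub B' (G.hom.left.left ⁻¹ᵁ U)) :=
  μ g M (pieceMap π U) (openLift G _ U le_rfl) (pieceMap π' _) (isPullback_piece g π π' G sq U).w

theorem bijective_μPiece [M.IsQuasicoherent] [IsAffine E.obj.left.left] [IsAffine E'.obj.left.left]
    (U : B.obj.left.left.Opens) (hU : IsAffineOpen U) : Function.Bijective (μPiece M g π π' G sq U) := by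
  haveI : IsAffine (openSub B U).obj.left.left := hU
  haveI := isAffine_piece g π π' G sq U hU
  exact bijective_μ g M _ _ _ _ (isPullback_piece g π π' G sq U)

theorem μPiece_incl {U V : B.obj.left.left.Opens} (h : V ≤ U)
    (z : Tw g ⊗[Γo E] SecVia M (openSub B U) (pieceMap π U)) :
    μPiece M g π π' G sq V ((resVia M (incl h) _ _ (incl_pieceMap π h)).lTensor (Tw g) z) =
      res M (incl (G.hom.left.left.preimage_mono h)) (μPiece M g π π' G sq U z) := by
  induction z using TensorProduct.induction_on with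
  | zero => simp only [map_zero]
  | add x y hx hy => simp only [map_add, hx, hy]
  | tmul a m =>
    change ((pieceMap π' (G.hom.left.left ⁻¹ᵁ V)).appTop (Tw.out a) : Γo (openSub B' (G.hom.left.left ⁻¹ᵁ V))) •
        res M (openLift G (G.hom.left.left ⁻¹ᵁ V) V le_rfl) (res M (incl h) m.out) =
      res M (incl (G.hom.left.left.preimage_mono h))
        (((pieceMap π' (G.hom.left.left ⁻¹ᵁ U)).appTop (Tw.out a) : Γo (openSub B' (G.hom.left.left ⁻¹ᵁ U))) •
          res M (openLift G (G.hom.left.left ⁻¹ᵁ U) U le_rfl) m.out)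
    rw [res_smul, ← res_comp, ← res_comp]
    have e : openLift G (G.hom.left.left ⁻¹ᵁ V) V le_rfl ≫ incl h =
        incl (G.hom.left.left.preimage_mono h) ≫ openLift G (G.hom.left.left ⁻¹ᵁ U) U le_rfl := by
      refine EtOver.hom_ext _ _ (Over.OverMorphism.ext ((cancel_mono U.ι).1 ?_))
      have := congrArg (fun z => z.hom.left.left)
        (show (openLift G (G.hom.left.left ⁻¹ᵁ V) V le_rfl ≫ incl h) ≫ openSubι B U =
          (incl (G.hom.left.left.preimage_mono h) ≫ openLift G (G.hom.left.left ⁻¹ᵁ U) U le_rfl) ≫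
            openSubι B U by
          rw [Category.assoc, Category.assoc, incl_ι, openLift_ι, openLift_ι, ← Category.assoc, incl_ι])
      exact this
    rw [e]
    refine congrArg (· • _) ?_
    rw [← incl_pieceMap π' (G.hom.left.left.preimage_mono h), Scheme.Hom.comp_appTop]
    rfl

theorem μPiece_ι (U : B.obj.left.left.Opens) (z : Tw g ⊗[Γo E] SecVia M B π) :
    μPiece M g π π' G sq U ((resVia M (openSubι B U) π (pieceMap π U) rfl).lTensor (Tw g) z) =
      res M (openSubι B' _) (μ g M π G π' sq.w z) := by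
  induction z using TensorProduct.induction_on with
  | zero => simp only [map_zero]
  | add x y hx hy => simp only [map_add, hx, hy]
  | tmul a m =>
    change ((pieceMap π' (G.hom.left.left ⁻¹ᵁ U)).appTop (Tw.out a) : Γo (openSub B' (G.hom.left.left ⁻¹ᵁ U))) •
        res M (openLift G (G.hom.left.left ⁻¹ᵁ U) U le_rfl) (res M (openSubι B U) m.out) =
      res M (openSubι B' (G.hom.left.left ⁻¹ᵁ U)) ((π'.appTop (Tw.out a) : Γo B') • res M G m.out)
    rw [res_smul, ← res_comp, ← res_comp, openLift_ι, pieceMap, Scheme.Hom.comp_appTop]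
    rfl

include sq in
/-- Flat base change of sections over quasi-compact quasi-separated objects. -/
theorem bijective_μ_qcqs [M.IsQuasicoherent] [IsAffine E.obj.left.left] [IsAffine E'.obj.left.left]
    [CompactSpace B.obj.left.left] [QuasiSeparatedSpace B.obj.left.left] :
    Function.Bijective (μ g M π G π' sq.w) := by
  classical
  obtain ⟨ι, hι, O, hOa, -, hO⟩ := exists_affines (⊤ : B.obj.left.left.Opens) isCompact_univ
  have hint : ∀ p : ι × ι, ∃ (κ : Type u) (_ : Finite κ) (U : κ → B.obj.left.left.Opens),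
      (∀ k, IsAffineOpen (U k)) ∧ (∀ k, U k ≤ O p.1 ⊓ O p.2) ∧ ∀ x ∈ O p.1 ⊓ O p.2, ∃ k, x ∈ U k :=
    fun p => exists_affines _ (QuasiSeparatedSpace.inter_isCompact _ _ (O p.1).isOpen
      (hOa p.1).isCompact (O p.2).isOpen (hOa p.2).isCompact)
  choose κ hκ O' hO'a hle hO' using hint
  have hle₁ : ∀ p k, O' p k ≤ O p.1 := fun p k => (hle p k).trans inf_le_left
  have hle₂ : ∀ p k, O' p k ≤ O p.2 := fun p k => (hle p k).trans inf_le_right
  have := Fintype.ofFinite ι
  have : Fintype (Σ p, κ p) := Fintype.ofFinite _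
  haveI := Tw.flat g
  let P : ι → B'.obj.left.left.Opens := fun i => G.hom.left.left ⁻¹ᵁ O i
  let P' : ∀ p, κ p → B'.obj.left.left.Opens := fun p k => G.hom.left.left ⁻¹ᵁ O' p k
  have hle₁' : ∀ p k, P' p k ≤ P p.1 := fun p k => G.hom.left.left.preimage_mono (hle₁ p k)
  have hle₂' : ∀ p k, P' p k ≤ P p.2 := fun p k => G.hom.left.left.preimage_mono (hle₂ p k)
  let μI : Tw g ⊗[Γo E] (∀ i, SecVia M (openSub B (O i)) (pieceMap π (O i))) →+
      ∀ i, SecVia M (openSub B' (P i)) (pieceMap π' (P i)) :=
    AddMonoidHom.pi fun i =>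
      (μPiece M g π π' G sq (O i)).comp
        (((LinearMap.proj i : (∀ i, SecVia M (openSub B (O i)) (pieceMap π (O i))) →ₗ[Γo E] _)).lTensor
          (Tw g)).toAddMonoidHom
  let μK : Tw g ⊗[Γo E] (∀ q : (Σ p, κ p), SecVia M (openSub B (O' q.1 q.2)) (pieceMap π (O' q.1 q.2))) →+
      ∀ q : (Σ p, κ p), SecVia M (openSub B' (P' q.1 q.2)) (pieceMap π' (P' q.1 q.2)) :=
    AddMonoidHom.pi fun q =>
      (μPiece M g π π' G sq (O' q.1 q.2)).comp
        (((LinearMap.proj q : (∀ q : (Σ p, κ p), SecVia M (openSub B (O' q.1 q.2))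
          (pieceMap π (O' q.1 q.2))) →ₗ[Γo E] _)).lTensor (Tw g)).toAddMonoidHom
  have hμI : Function.Bijective μI := by
    have e : ⇑μI = (fun w i => μPiece M g π π' G sq (O i) (w i)) ∘
        TensorProduct.piRight (Γo E) (Γo E) (Tw g) _ := funext fun z => funext fun i => by
      refine congrArg (μPiece M g π π' G sq (O i)) ?_
      induction z using TensorProduct.induction_on with
      | zero => simp
      | add x y hx hy => simp only [map_add, Pi.add_apply, ← hx, ← hy]
      | tmul a m => simp
    rw [e]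
    exact (Function.Bijective.piMap fun i => bijective_μPiece M g π π' G sq _ (hOa i)).comp
      (TensorProduct.piRight (Γo E) (Γo E) (Tw g) _).bijective
  have hμK : Function.Injective μK := by
    have e : ⇑μK = (fun w (q : Σ p, κ p) => μPiece M g π π' G sq (O' q.1 q.2) (w q)) ∘
        TensorProduct.piRight (Γo E) (Γo E) (Tw g) _ := funext fun z => funext fun q => by
      refine congrArg (μPiece M g π π' G sq (O' q.1 q.2)) ?_
      induction z using TensorProduct.induction_on with
      | zero => simp
      | add x y hx hy => simp only [map_add, Pi.add_apply, ← hx, ← hy]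
      | tmul a m => simp
    rw [e]
    exact (Function.Injective.piMap fun q : (Σ p, κ p) =>
      (bijective_μPiece M g π π' G sq _ (hO'a q.1 q.2)).1).comp
      (TensorProduct.piRight (Γo E) (Γo E) (Tw g) _).injective
  refine bijective_of_equalizer (Tw g) (rMap M π O) (dMap M π O O' hle₁ hle₂)
    (rMap M π' P).toAddMonoidHom (dMap M π' P P' hle₁' hle₂').toAddMonoidHom
    (μ g M π G π' sq.w) μI μK (rMap_injective M π O fun x => hO x trivial)
    (exact_rMap M π O O' hle₁ hle₂ (fun x => hO x trivial) fun p x h₁ h₂ => hO' p x ⟨h₁, h₂⟩)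
    (rMap_injective M π' P fun x => hO (G.hom.left.left x) trivial)
    (exact_rMap M π' P P' hle₁' hle₂' (fun x => hO (G.hom.left.left x) trivial)
      fun p x h₁ h₂ => hO' p _ ⟨h₁, h₂⟩)
    hμI hμK (fun z => funext fun i => ?_) (fun z => funext fun q => ?_)
  · refine (μPiece_ι M g π π' G sq (O i) z).symm.trans (congrArg (μPiece M g π π' G sq (O i)) ?_)
    exact (DFunLike.congr_fun (LinearMap.lTensor_comp (Tw g) (LinearMap.proj i) (rMap M π O)) z)
  · refine Eq.trans ?_ (congrArg (μPiece M g π π' G sq (O' q.1 q.2))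
      (DFunLike.congr_fun (LinearMap.lTensor_comp (Tw g) (LinearMap.proj q)
        (dMap M π O O' hle₁ hle₂)) z))
    rw [show LinearMap.proj q ∘ₗ dMap M π O O' hle₁ hle₂ = _ from LinearMap.proj_pi _ q,
      LinearMap.lTensor_sub, LinearMap.sub_apply, map_sub, LinearMap.lTensor_comp_apply,
      LinearMap.lTensor_comp_apply, μPiece_incl, μPiece_incl]
    rfl

end Compare

end Groth.Agent.QcohPush14
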